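import Cfsg.Agent.H99.RankOne.Canon
import Cfsg.Agent.H28.ZassClassify
import Cfsg.Agent.H70.SzUnique.Main
import Cfsg.Agent.S1122
import Cfsg.Agent.S1128
import Cfsg.Agent.S0340
import Mathlib.GroupTheory.FixedPointFree

/-!
# Rank one: reduction of the recognition theorem to the unitary branch

* `sub`: in a rank-one set-up the subgroup generated by `Q` and `t` is again one.
* `zassenhaus`: if no nontrivial element of the two-point stabiliser centralises `t` the group acts as a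
  Zassenhaus group, so it is PSL₂ of characteristic two or a Suzuki group (`two_cases`).
* `reduce`: the conclusion of the recognition theorem from the statement of the unitary branch.
-/

set_option autoImplicit false

namespace Cfsg.Agent.H91.RankOne

open MulAction

universe u v

/-- The remaining branch: the two-point stabiliser meets the centraliser of `t` nontrivially. -/
def UnitaryBranch : Prop :=
  ∀ (G : Type u) (Ω : Type v) [Group G] [Finite G] [MulAction G Ω] [FaithfulSMul G Ω]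
    (a : Ω) (t : G) (Q : Subgroup G),
    Cfsg.IsRankOneSetup G Ω a t Q →
    (∃ x y : G, x ≠ 1 ∧ y ≠ 1 ∧ x ≠ y ∧ x * x = 1 ∧ y * y = 1 ∧ x * y = y * x) →
    Subgroup.closure ((Q : Set G) ∪ {t}) = ⊤ →
    (∃ d ∈ stabilizer G a ⊓ stabilizer G (t • a), d ≠ 1 ∧ d * t = t * d) →
    ∃ (F : Type) (_ : Field F) (_ : Fintype F) (n : ℕ), 2 ≤ n ∧ Fintype.card F = (2 ^ n) ^ 2 ∧
      Nonempty (G ≃* Cfsg.PSU 3 F (2 ^ n))

variable {G : Type u} {Ω : Type v} [Group G] [MulAction G Ω] {a : Ω} {t : G} {Q : Subgroup G}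

/-- The set-up is inherited by a subgroup containing `Q` and `t`. -/
theorem sub [Finite G] (hS : Cfsg.IsRankOneSetup G Ω a t Q) {L : Subgroup G} (hQ : Q ≤ L) (ht : t ∈ L) :
    Cfsg.IsRankOneSetup L Ω a (⟨t, ht⟩ : L) (Q.subgroupOf L) where
  two_transitive := by
    rw [is_two_pretransitive_iff]
    -- any pair is carried to the base pair
    have key : ∀ {x y : Ω}, x ≠ y → ∃ g : L, g • x = a ∧ g • y = t • a := by
      intro x y hxy
      obtain ⟨g, hg⟩ : ∃ g : L, g • x = a := by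
        by_cases hx : x = a
        · exact ⟨1, by rw [one_smul, hx]⟩
        · obtain ⟨q, hq, hqx⟩ := H38.exists_Q hS hx
          refine ⟨⟨t, ht⟩ * ⟨q⁻¹, inv_mem (hQ hq)⟩, ?_⟩
          show (t * q⁻¹) • x = a
          rw [← hqx, mul_smul, inv_smul_smul, H38.t_smul_t_smul hS]
      have hy : g • y ≠ a := fun e => hxy (MulAction.injective g (hg.trans e.symm))
      obtain ⟨q, hq, hqy⟩ := H38.exists_Q hS hy
      refine ⟨⟨q⁻¹, inv_mem (hQ hq)⟩ * g, ?_, ?_⟩
      · rw [mul_smul, hg]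
        exact H38.Q_fix hS (inv_mem hq)
      · rw [mul_smul, ← hqy]
        exact inv_smul_smul q _
    intro x y x' y' h h'
    obtain ⟨g, hg1, hg2⟩ := key h
    obtain ⟨g', hg1', hg2'⟩ := key h'
    exact ⟨g'⁻¹ * g, by rw [mul_smul, hg1, ← hg1', inv_smul_smul],
      by rw [mul_smul, hg2, ← hg2', inv_smul_smul]⟩
  mul_self := Subtype.ext hS.mul_self
  ne_one := fun h => hS.ne_one (congrArg Subtype.val h)
  not_mem := fun h => hS.not_mem h
  le := fun _ hx => hS.le (Subgroup.mem_subgroupOf.1 hx)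
  conj_mem := fun h hh x hx => Subgroup.mem_subgroupOf.2 (hS.conj_mem (h : G) hh _ (Subgroup.mem_subgroupOf.1 hx))
  inf_eq_bot := by
    rw [eq_bot_iff]
    rintro x ⟨hx, hx'⟩
    have : (x : G) ∈ Q ⊓ stabilizer G (t • a) := ⟨Subgroup.mem_subgroupOf.1 hx, hx'⟩
    rw [hS.inf_eq_bot, Subgroup.mem_bot] at this
    exact Subtype.ext this
  sup_eq := by
    refine le_antisymm (sup_le (fun x hx => hS.le (Subgroup.mem_subgroupOf.1 hx)) inf_le_left) fun g hg => ?_
    obtain ⟨q, hq, d, hd, e⟩ := H38.exists_decomp hS (show (g : G) ∈ stabilizer G a from hg)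
    have hdL : d ∈ L := by
      have : d = q⁻¹ * (g : G) := by rw [e, inv_mul_cancel_left]
      rw [this]
      exact mul_mem (inv_mem (hQ hq)) g.2
    have : g = ⟨q, hQ hq⟩ * ⟨d, hdL⟩ := Subtype.ext e
    rw [this]
    exact Subgroup.mul_mem_sup (Subgroup.mem_subgroupOf.2 hq) ⟨hd.1, hd.2⟩
  even_card := by
    rw [Nat.card_congr (Subgroup.subgroupOfEquivOfLe hQ).toEquiv]
    exact hS.even_card
  odd_card := by
    refine hS.odd_card.of_dvd_nat ?_
    let f : ↥(stabilizer L a ⊓ stabilizer L ((⟨t, ht⟩ : L) • a)) →*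
        ↥(stabilizer G a ⊓ stabilizer G (t • a)) :=
      { toFun := fun x => ⟨((x : L) : G), ⟨x.2.1, x.2.2⟩⟩
        map_one' := rfl
        map_mul' := fun _ _ => rfl }
    exact Subgroup.card_dvd_of_injective f fun x y h =>
      Subtype.ext (Subtype.ext (congrArg (fun z : ↥(stabilizer G a ⊓ stabilizer G (t • a)) => (z : G)) h))

/-- Two commuting involutions can be moved into the stabiliser of `a`. -/
theorem exists_four_in_stab [Finite G] (hS : Cfsg.IsRankOneSetup G Ω a t Q)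
    (h2 : ∃ x y : G, x ≠ 1 ∧ y ≠ 1 ∧ x ≠ y ∧ x * x = 1 ∧ y * y = 1 ∧ x * y = y * x) :
    ∃ x y : G, x ∈ Q ∧ y ∈ Q ∧ x ≠ 1 ∧ y ≠ 1 ∧ x ≠ y ∧ x * x = 1 ∧ y * y = 1 ∧ x * y = y * x := by
  obtain ⟨x, y, hx1, hy1, hxy, hxx, hyy, hc⟩ := h2
  obtain ⟨c, hxc⟩ := H38.exists_fix hS hxx
  obtain ⟨g, hg⟩ := H38.exists_smul hS c a
  have hyc : y • c = c := H38.commute_fix hS hx1 hxx hc.symm hxc
  have hfix : ∀ z : G, z • c = c → g * z * g⁻¹ ∈ stabilizer G a := fun z hz => by
    show (g * z * g⁻¹) • a = a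
    rw [← hg, mul_smul, inv_smul_smul, mul_smul, hz]
  have hsq : ∀ z : G, z * z = 1 → g * z * g⁻¹ * (g * z * g⁻¹) = 1 := fun z hz => by
    rw [show g * z * g⁻¹ * (g * z * g⁻¹) = g * (z * z) * g⁻¹ by group, hz]; group
  refine ⟨g * x * g⁻¹, g * y * g⁻¹, H38.invol_mem_Q hS (hfix x hxc) (hsq x hxx),
    H38.invol_mem_Q hS (hfix y hyc) (hsq y hyy), by rwa [ne_eq, conj_eq_one_iff],
    by rwa [ne_eq, conj_eq_one_iff], fun e => hxy (mul_left_cancel (mul_right_cancel e)), hsq x hxx,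
    hsq y hyy, ?_⟩
  rw [show g * x * g⁻¹ * (g * y * g⁻¹) = g * (x * y) * g⁻¹ by group, hc]
  group

/-- A four group of involutions gives at least two involutions of the stabiliser, so the two-point
stabiliser is nontrivial. -/
theorem exists_ne_one_D [Finite G] (hS : Cfsg.IsRankOneSetup G Ω a t Q)
    (h2 : ∃ x y : G, x ≠ 1 ∧ y ≠ 1 ∧ x ≠ y ∧ x * x = 1 ∧ y * y = 1 ∧ x * y = y * x) :
    ∃ d ∈ stabilizer G a ⊓ stabilizer G (t • a), d ≠ 1 := by
  obtain ⟨x, y, hxQ, hyQ, hx1, hy1, hxy, hxx, hyy, -⟩ := exists_four_in_stab hS h2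
  obtain ⟨k, hk, hkx⟩ := (S1122.result hS).2 x ⟨hS.le hxQ, hx1, hxx⟩ y ⟨hS.le hyQ, hy1, hyy⟩
  exact ⟨k, hk.1, fun e => hxy (by rw [← hkx, e]; group)⟩

/-- If no nontrivial element of the two-point stabiliser centralises `t`, all are inverted by `t`. -/
theorem inverted [Finite G] (hS : Cfsg.IsRankOneSetup G Ω a t Q)
    (hV : ∀ d ∈ stabilizer G a ⊓ stabilizer G (t • a), d * t = t * d → d = 1) :
    ∀ d ∈ stabilizer G a ⊓ stabilizer G (t • a), t * d * t⁻¹ = d⁻¹ := by
  set D := stabilizer G a ⊓ stabilizer G (t • a)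
  let φ : ↥D →* ↥D := ((MulAut.conj t).toMonoidHom.comp D.subtype).codRestrict D
    fun d => H38.t_mem_normalizer_D hS d.2
  have hφ : ∀ d : D, (φ d : G) = t * (d : G) * t⁻¹ := fun d => rfl
  have hfp : MonoidHom.FixedPointFree φ := fun d hd => by
    have h1 : t * (d : G) * t⁻¹ = d := (hφ d).symm.trans (congrArg Subtype.val hd)
    exact Subtype.ext (hV d d.2 (mul_inv_eq_iff_eq_mul.1 h1).symm)
  have hinv : Function.Involutive φ := fun d => Subtype.ext (by
    rw [hφ, hφ, show t * (t * (d : G) * t⁻¹) * t⁻¹ = (t * t) * d * (t * t)⁻¹ by group, hS.mul_self]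
    simp)
  intro d hd
  exact congrArg Subtype.val (congrFun (hfp.coe_eq_inv_of_involutive hinv) ⟨d, hd⟩)

/-- Without an element of the two-point stabiliser centralising `t` the action is of Zassenhaus type. -/
theorem zassenhaus [Finite G] [FaithfulSMul G Ω] (hS : Cfsg.IsRankOneSetup G Ω a t Q)
    (h2 : ∃ x y : G, x ≠ 1 ∧ y ≠ 1 ∧ x ≠ y ∧ x * x = 1 ∧ y * y = 1 ∧ x * y = y * x)
    (hV : ∀ d ∈ stabilizer G a ⊓ stabilizer G (t • a), d * t = t * d → d = 1) :
    Cfsg.IsZassenhausGroup G Ω := by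
  classical
  have hne := (H38.t_smul_ne hS).symm
  refine ⟨inferInstance, hS.two_transitive, ?_, ?_, ?_⟩
  · intro g x y z hxy hyz hxz hgx hgy hgz
    obtain ⟨k, hk1, hk2⟩ := H38.two_trans hS hxy hne
    set d := k * g * k⁻¹ with hd
    have hdx : ∀ w : Ω, g • w = w → d • (k • w) = k • w := fun w hw => by
      rw [hd, mul_smul, inv_smul_smul, mul_smul, hw]
    have hdD : d ∈ stabilizer G a ⊓ stabilizer G (t • a) :=
      H38.mem_D_iff.2 ⟨hk1 ▸ hdx x hgx, hk2 ▸ hdx y hgy⟩
    have hza : k • z ≠ a := fun e => hxz (MulAction.injective k (hk1.trans e.symm))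
    have hzb : k • z ≠ t • a := fun e => hyz (MulAction.injective k (hk2.trans e.symm))
    obtain ⟨q, hq, hqz⟩ := H38.exists_Q hS hza
    by_contra hg
    have hd1 : d ≠ 1 := fun e => hg (conj_eq_one_iff.1 e)
    have hcomm : d * q * d⁻¹ = q := by
      refine H38.Q_inj_base hS (hS.conj_mem d hdD.1 q hq) hq ?_
      have hd2 : d⁻¹ • (t • a) = t • a := inv_smul_eq_iff.2 (H38.mem_D_iff.1 hdD).2.symm
      rw [mul_smul, mul_smul, hd2, hqz]
      exact hdx z hgz
    have hq' : q ∈ Q ⊓ Subgroup.centralizer ({d} : Set G) :=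
      ⟨hq, Subgroup.mem_centralizer_singleton_iff.2 (mul_inv_eq_iff_eq_mul.1 hcomm).symm⟩
    have hdinv : d ∈ Cfsg.invertedBy (stabilizer G a ⊓ stabilizer G (t • a)) t :=
      ⟨hdD, by
        have := inverted hS hV d hdD
        simpa [H38.t_inv hS] using this⟩
    rw [S1128.result hS h2 d hdinv hd1, Subgroup.mem_bot] at hq'
    rw [hq', one_smul] at hqz
    exact hzb hqz.symm
  · obtain ⟨d, hd, hd1⟩ := exists_ne_one_D hS h2
    exact ⟨d, hd1, a, t • a, hne, (H38.mem_D_iff.1 hd).1, (H38.mem_D_iff.1 hd).2⟩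
  · intro N hN htr
    by_contra hcon
    push Not at hcon
    obtain ⟨x, y, hx1, hy1, hxy, hxx, hyy, hc⟩ := h2
    -- every involution inverts the regular subgroup
    have key : ∀ s : G, s ≠ 1 → s * s = 1 → ∀ n ∈ N, s * n * s⁻¹ = n⁻¹ := by
      intro s hs1 hss
      let φ : ↥N →* ↥N := ((MulAut.conj s).toMonoidHom.comp N.subtype).codRestrict N
        fun n => hN.conj_mem n n.2 s
      have hφ : ∀ n : N, (φ n : G) = s * (n : G) * s⁻¹ := fun n => rfl
      have hfp : MonoidHom.FixedPointFree φ := fun n hn => by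
        have h1 : s * (n : G) * s⁻¹ = n := (hφ n).symm.trans (congrArg Subtype.val hn)
        obtain ⟨c, hsc⟩ := H38.exists_fix hS hss
        have hnc : n ∈ stabilizer N c :=
          H38.commute_fix hS hs1 hss (mul_inv_eq_iff_eq_mul.1 h1).symm hsc
        rw [hcon c, Subgroup.mem_bot] at hnc
        exact hnc
      have hinv : Function.Involutive φ := fun n => Subtype.ext (by
        rw [hφ, hφ, show s * (s * (n : G) * s⁻¹) * s⁻¹ = (s * s) * n * (s * s)⁻¹ by group, hss]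
        simp)
      intro n hn
      exact congrArg Subtype.val (congrFun (hfp.coe_eq_inv_of_involutive hinv) ⟨n, hn⟩)
    obtain ⟨n, hn⟩ := htr.exists_smul_eq a (t • a)
    have hn1 : (n : G) ≠ 1 := fun e => hne (by
      rw [← hn]
      show a = (n : G) • a
      rw [e, one_smul])
    have hxy1 : x * y ≠ 1 := fun e => hxy (by
      rw [← inv_eq_of_mul_eq_one_right hxx]; exact inv_eq_of_mul_eq_one_right e)
    have hxy2 : x * y * (x * y) = 1 := by
      rw [show x * y * (x * y) = x * (y * x) * y by group, ← hc,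
        show x * (x * y) * y = (x * x) * (y * y) by group, hxx, hyy, one_mul]
    have h1 := key (x * y) hxy1 hxy2 n n.2
    rw [show x * y * (n : G) * (x * y)⁻¹ = x * (y * (n : G) * y⁻¹) * x⁻¹ by group,
      key y hy1 hyy n n.2, key x hx1 hxx _ (inv_mem n.2), inv_inv] at h1
    -- an element equal to its inverse in a group inverted without fixed points
    have h3 := key x hx1 hxx n n.2
    rw [← h1] at h3
    obtain ⟨c, hxc⟩ := H38.exists_fix hS hxx
    have hnc : n ∈ stabilizer N c :=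
      H38.commute_fix hS hx1 hxx (mul_inv_eq_iff_eq_mul.1 h3).symm hxc
    rw [hcon c, Subgroup.mem_bot] at hnc
    exact hn1 (congrArg Subtype.val hnc)

/-- The Zassenhaus branch. -/
theorem two_cases [Finite G] [FaithfulSMul G Ω] (hS : Cfsg.IsRankOneSetup G Ω a t Q)
    (h2 : ∃ x y : G, x ≠ 1 ∧ y ≠ 1 ∧ x ≠ y ∧ x * x = 1 ∧ y * y = 1 ∧ x * y = y * x)
    (htop : Subgroup.closure ((Q : Set G) ∪ {t}) = ⊤)
    (hV : ∀ d ∈ stabilizer G a ⊓ stabilizer G (t • a), d * t = t * d → d = 1) :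
    (∃ (F : Type) (_ : Field F) (_ : Fintype F), (∃ n : ℕ, 2 ≤ n ∧ Fintype.card F = 2 ^ n) ∧
        Nonempty (G ≃* Matrix.ProjectiveSpecialLinearGroup (Fin 2) F)) ∨ Cfsg.Lie.IsoSuzuki G := by
  classical
  have hne := (H38.t_smul_ne hS).symm
  have hΩ : Finite Ω := H38.finite_pts hS
  have := Fintype.ofFinite G
  have hZ := zassenhaus hS h2 hV
  have hker : H28.Zass.IsKer a Q :=
    ⟨hS.le, (H38.card_pts hS).symm, fun u hu hu1 c hc => H38.Q_fix_only hS hu hu1 hc⟩
  have hsimple : IsSimpleGroup G := by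
    obtain ⟨M, hMn, -, hMs, -, hkM⟩ := H28.Zass.exists_simple_normal hZ
    have hQM := hkM a Q hker
    have htM : t ∈ M := by
      obtain ⟨x, y, hxQ, -, hx1, -, -, hxx, -, -⟩ := exists_four_in_stab hS h2
      obtain ⟨g, hg⟩ := H38.invol_conj hS hx1 hxx hS.ne_one hS.mul_self
      rw [← hg]
      exact hMn.conj_mem x (hQM hxQ) g
    have hMtop : M = ⊤ := by
      rw [eq_top_iff, ← htop, Subgroup.closure_le]
      exact Set.union_subset hQM (Set.singleton_subset_iff.2 htM)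
    subst hMtop
    exact (Subgroup.topEquiv (G := G)).symm.isSimpleGroup
  have hodd := hS.odd_card
  have heven := hS.even_card
  by_cases hcomm : ∀ u ∈ Q, ∀ v ∈ Q, u * v = v * u
  · rcases H28.Zass.kernel_cases hker hZ hne hcomm with he | he
    · obtain ⟨hcyc, -, hinv⟩ := H28.Zass.inverted_of_simple hZ hne hodd
      obtain ⟨F, hF1, hF2, hchar, hcard, hiso⟩ := H28.Zass.sharp_equiv hker hZ hne hcomm
        (fun x hx y hy => by
          let := hcyc
          letI : CommGroup ↥(stabilizer G a ⊓ stabilizer G (t • a)) := IsCyclic.commGroup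
          exact congrArg Subtype.val (mul_comm
            (⟨x, hx⟩ : ↥(stabilizer G a ⊓ stabilizer G (t • a))) ⟨y, hy⟩))
        hinv he (he ▸ hodd.add_one)
      refine Or.inl ⟨F, hF1, hF2, ?_, hiso⟩
      have : CharP F 2 := by rw [← hchar]; exact ringChar.charP F
      obtain ⟨n, -, hn⟩ := FiniteField.card F 2
      refine ⟨n, ?_, hn⟩
      by_contra hlt
      have h4 : Nat.card Q = 2 := by
        rw [← hcard, hn, show (n : ℕ) = 1 by have := n.pos; omega, pow_one]
      have hD1 : Nat.card ↥(stabilizer G a ⊓ stabilizer G (t • a)) = 1 := by omega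
      obtain ⟨d, hd, hd1⟩ := exists_ne_one_D hS h2
      have := (Nat.card_eq_one_iff_unique.1 hD1).1
      exact hd1 (congrArg Subtype.val (Subsingleton.elim
        (⟨d, hd⟩ : ↥(stabilizer G a ⊓ stabilizer G (t • a))) 1))
    · exfalso
      rw [Nat.even_iff] at heven
      omega
  · push Not at hcomm
    obtain ⟨u, hu, v, hv, huv⟩ := hcomm
    have := Fintype.ofFinite Ω
    have hlt : 2 * Nat.card ↥(stabilizer G a ⊓ stabilizer G (t • a)) < Nat.card Q - 1 := by
      by_contra hle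
      have hn : (Q.subgroupOf (stabilizer G a)).Normal := hker.normal_sub hZ
      obtain ⟨hc, -⟩ := S0738.result hZ hne (by
        rw [← Nat.card_eq_fintype_card, ← hker.card]; omega) Q hker.le hn
        (fun y z hy hz => hker.regular hZ hy hz)
      exact huv (congrArg Subtype.val (hc.is_comm.comm ⟨u, hu⟩ ⟨v, hv⟩))
    obtain ⟨hp, -, -⟩ := H28.Zass.simple_feit_two hker hZ hne hodd hlt
    exact Or.inr (H70.SzUnique.isoSuzuki hker hZ hne hp ⟨u, hu, v, hv, huv⟩)

/-- The recognition theorem from the unitary branch. -/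
theorem reduce (hU : UnitaryBranch.{u, v}) [Finite G] [FaithfulSMul G Ω]
    (hS : Cfsg.IsRankOneSetup G Ω a t Q)
    (h2 : ∃ x y : G, x ≠ 1 ∧ y ≠ 1 ∧ x ≠ y ∧ x * x = 1 ∧ y * y = 1 ∧ x * y = y * x) :
    ∃ L : Subgroup G, L.Normal ∧ Odd L.index ∧
      ((∃ (F : Type) (_ : Field F) (_ : Fintype F), (∃ n : ℕ, 2 ≤ n ∧ Fintype.card F = 2 ^ n) ∧
          Nonempty (L ≃* Matrix.ProjectiveSpecialLinearGroup (Fin 2) F)) ∨
        Cfsg.Lie.IsoSuzuki L ∨
        (∃ (F : Type) (_ : Field F) (_ : Fintype F) (n : ℕ), 2 ≤ n ∧ Fintype.card F = (2 ^ n) ^ 2 ∧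
          Nonempty (L ≃* Cfsg.PSU 3 F (2 ^ n)))) := by
  refine ⟨_, H99.RankOne.closure_normal hS, H99.RankOne.odd_index_closure hS, ?_⟩
  set L := Subgroup.closure ((Q : Set G) ∪ {t}) with hL
  have hQ : Q ≤ L := fun q hq => Subgroup.subset_closure (Or.inl hq)
  have ht : t ∈ L := Subgroup.subset_closure (Or.inr rfl)
  have hSL := sub hS hQ ht
  have h2L : ∃ x y : L, x ≠ 1 ∧ y ≠ 1 ∧ x ≠ y ∧ x * x = 1 ∧ y * y = 1 ∧ x * y = y * x := by
    obtain ⟨x, y, hxQ, hyQ, hx1, hy1, hxy, hxx, hyy, hc⟩ := exists_four_in_stab hS h2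
    exact ⟨⟨x, hQ hxQ⟩, ⟨y, hQ hyQ⟩, fun e => hx1 (congrArg Subtype.val e),
      fun e => hy1 (congrArg Subtype.val e), fun e => hxy (congrArg Subtype.val e), Subtype.ext hxx,
      Subtype.ext hyy, Subtype.ext hc⟩
  have htop : Subgroup.closure (((Q.subgroupOf L : Subgroup L) : Set L) ∪ {(⟨t, ht⟩ : L)}) = ⊤ := by
    apply Subgroup.map_injective L.subtype_injective
    rw [MonoidHom.map_closure, ← MonoidHom.range_eq_map, Subgroup.range_subtype, Set.image_union,
      Set.image_singleton]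
    conv_rhs => rw [hL]
    congr 2
    ext x
    constructor
    · rintro ⟨y, hy, rfl⟩
      exact Subgroup.mem_subgroupOf.1 hy
    · intro hx
      exact ⟨⟨x, hQ hx⟩, Subgroup.mem_subgroupOf.2 hx, rfl⟩
  by_cases hV : ∀ d ∈ stabilizer L a ⊓ stabilizer L ((⟨t, ht⟩ : L) • a),
      d * ⟨t, ht⟩ = ⟨t, ht⟩ * d → d = 1
  · rcases two_cases hSL h2L htop hV with h | h
    · exact Or.inl h
    · exact Or.inr (Or.inl h)
  · push Not at hV
    obtain ⟨d, hd, hdc, hd1⟩ := hV
    exact Or.inr (Or.inr (hU L Ω a _ _ hSL h2L htop ⟨d, hd, hd1, hdc⟩))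

end Cfsg.Agent.H91.RankOne
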